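import Groth.Agent.K0Hom.GenMaps
import Groth.Agent.K0Hom.GenSurj
import Groth.Agent.DQCoh.RelTensor
import Groth.Agent.SGA6Ext.Pull

/-!
Virtual bundles of rank zero act nilpotently on classes of coherent modules.
-/

set_option autoImplicit false
set_option linter.style.haveILetI false
set_option linter.unusedSectionVars false
set_option backward.isDefEq.respectTransparency false
set_option backward.isDefEq.respectTransparency.types false
set_option maxHeartbeats 1000000

universe u

open CategoryTheory CategoryTheory.Limits AlgebraicGeometry TopologicalSpace Opposite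

noncomputable section

attribute [local instance] Abelian.hasFiniteBiproducts

namespace Groth.Agent.K0Virt

open K0Hom

variable {X : Scheme.{u}} [IsNoetherian X]

theorem isFinLocFree_freeMod (X : Scheme.{u}) (r : ℕ) : FlatMod.IsFinLocFree (FlatMod.freeMod X r) := fun _ =>
  ⟨⊤, r, trivial, ⟨(Scheme.Modules.restrictFunctorIsoPullback _).app _ ≪≫ DerPerf.pullFreeIso _ r⟩⟩

theorem clM_free_tensor {F : X.Modules} (hF : Coh.IsCoh F) (r : ℕ) :
    clM (CohB1.tensorMod (FlatMod.freeMod X r) F) = r • clM F := by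
  induction r with
  | zero =>
    rw [zero_smul]
    refine K0Filt.cl_zero ?_
    exact IsZero.of_iso (PnReg.isZero_tensor_right (by
      rw [IsZero.iff_id_eq_zero]
      exact Sigma.hom_ext _ _ fun i => i.elim0) F) (TMul.commIso _ _)
  | succ r ih =>
    let G := (DCoh.tensorBi (X := X)).flip.obj F
    let S := ShortComplex.mk (biprod.inl : Coh.structureModule X ⟶ _ ⊞ FlatMod.freeMod X r) biprod.snd biprod.inl_snd
    have hT := ((ShortComplex.Splitting.ofHasBinaryBiproduct (Coh.structureModule X) (FlatMod.freeMod X r)).map G).shortExact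
    let i : CohB1.tensorMod S.X₂ F ≅ CohB1.tensorMod (FlatMod.freeMod X (r + 1)) F :=
      PicGrp.tensorModIso (DQCoh.sigmaSuccIso fun _ : Fin (r + 1) => Coh.structureModule X).symm (Iso.refl F)
    have h₁ : Coh.IsCoh (CohB1.tensorMod S.X₁ F) := K0Coh.isCoh_of_iso (TMul.leftUnitIso F).symm hF
    have h₂ : Coh.IsCoh (CohB1.tensorMod S.X₂ F) :=
      K0Coh.isCoh_of_iso i.symm (isCoh_ten (isFinLocFree_freeMod X (r + 1)) hF)
    have h₃ : Coh.IsCoh (CohB1.tensorMod S.X₃ F) := isCoh_ten (isFinLocFree_freeMod X r) hF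
    have h := K0Filt.cl_add hT h₁ h₂ h₃
    rw [← clM_iso i h₂]
    refine h.trans ?_
    show clM (CohB1.tensorMod S.X₁ F) + clM (CohB1.tensorMod (FlatMod.freeMod X r) F) = _
    rw [clM_iso (TMul.leftUnitIso F) h₁, ih, succ_nsmul, add_comm]

theorem tenC_free (r : ℕ) (hE : FlatMod.IsFinLocFree (FlatMod.freeMod X r)) (y : SGA6.Kcoh X) :
    tenC (FlatMod.freeMod X r) hE y = r • y := by
  refine DFunLike.congr_fun (K0Filt.hom_ext_cl _ (f := tenC (FlatMod.freeMod X r) hE)
    (g := r • AddMonoidHom.id _) fun M hM => ?_) y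
  show tenC _ hE (clM M) = r • clM M
  rw [tenC_cl _ hE hM, clM_free_tensor hM r]

/-- `x ↦ E ⊗ x - r x`. -/
def virt (r : ℕ) (E : X.Modules) (hE : FlatMod.IsFinLocFree E) : SGA6.Kcoh X →+ SGA6.Kcoh X :=
  tenC E hE - r • AddMonoidHom.id _

theorem genE_id (E : X.Modules) (hE : FlatMod.IsFinLocFree E) (y : SGA6.Kcoh X) :
    genE (𝟙 X) E hE y = tenC E hE y := by
  show tenC E hE (pbF (𝟙 X) y) = _
  rw [pbF_id]

theorem virt_pushC {Z : Scheme.{u}} [IsNoetherian Z] (i : Z ⟶ X) [IsClosedImmersion i] (r : ℕ) {E : X.Modules}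
    (hE : FlatMod.IsFinLocFree E) (hE' : FlatMod.IsFinLocFree ((Scheme.Modules.pullback i).obj E)) (z : SGA6.Kcoh Z) :
    virt r E hE (pushC i z) = pushC i (virt r _ hE' z) := by
  have h := pushC_genE (g := i) (g' := i) (p := 𝟙 X) (p' := 𝟙 Z) (IsPullback.of_vert_isIso ⟨by simp⟩) hE hE'
    (Iso.refl _) z
  rw [genE_id, genE_id] at h
  simp only [virt, AddMonoidHom.sub_apply, AddMonoidHom.smul_apply, AddMonoidHom.id_apply, map_sub, map_nsmul, h]

theorem pbF_virt {U : Scheme.{u}} [IsNoetherian U] (j : U ⟶ X) [Flat j] (r : ℕ) {E : X.Modules}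
    (hE : FlatMod.IsFinLocFree E) (e : (Scheme.Modules.pullback j).obj E ≅ FlatMod.freeMod U r) (y : SGA6.Kcoh X) :
    pbF j (virt r E hE y) = 0 := by
  have h := pbF_genE (p := 𝟙 X) (p' := 𝟙 U) j j (by simp) hE (isFinLocFree_freeMod U r) e y
  rw [genE_id, genE_id, tenC_free] at h
  simp only [virt, AddMonoidHom.sub_apply, AddMonoidHom.smul_apply, AddMonoidHom.id_apply, map_sub, map_nsmul, h,
    sub_self]

theorem subsingleton_of_isEmpty [IsEmpty X] (y : SGA6.Kcoh X) : y = 0 := by
  refine DFunLike.congr_fun (K0Filt.hom_ext_cl _ (f := AddMonoidHom.id _) (g := 0) fun M _ => ?_) y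
  exact K0Filt.cl_zero ((K0Dev.isZero_iff_stalks M).2 fun x => isEmptyElim x)

/-- The virtual bundle kills everything after as many steps as there are trivialising opens. -/
theorem iterate_virt_eq_zero (r : ℕ) (n : ℕ) : ∀ {X : Scheme.{u}} [IsNoetherian X] {E : X.Modules}
    (hE : FlatMod.IsFinLocFree E) (U : Fin n → X.Opens), (∀ x, ∃ j, x ∈ U j) →
    (∀ j, Nonempty ((Scheme.Modules.pullback (U j).ι).obj E ≅ FlatMod.freeMod (U j : Scheme.{u}) r)) →
    ∀ y, (⇑(virt r E hE))^[n] y = 0 := by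
  induction n with
  | zero =>
    intro X _ E hE U hU _ y
    haveI : IsEmpty X := ⟨fun x => (hU x).choose.elim0⟩
    exact subsingleton_of_isEmpty y
  | succ n ih =>
    intro X _ E hE U hU ht y
    let D : Closeds X := ⟨((U 0 : X.Opens) : Set X)ᶜ, (U 0).isOpen.isClosed_compl⟩
    let I := Scheme.IdealSheafData.vanishingIdeal D
    let i : I.subscheme ⟶ X := I.subschemeι
    have hk : Set.range i = ((U 0 : X.Opens) : Set X)ᶜ := by
      show Set.range I.subschemeι = _
      rw [Scheme.IdealSheafData.range_subschemeι]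
      exact Scheme.IdealSheafData.coe_support_vanishingIdeal D
    haveI : IsNoetherian I.subscheme := isNoetherian_of_immersion i
    haveI : IsNoetherian (U 0 : Scheme.{u}) := LocImmFT.isNoetherian_opens _
    obtain ⟨e⟩ := ht 0
    obtain ⟨z, hz⟩ := exists_pushC_eq i (U 0).ι (by rw [hk, compl_compl, Scheme.Opens.range_ι])
      (pbF_virt (U 0).ι r hE e y)
    have hE' := SGA6Ext.isFinLocFree_pullback i hE
    have hit : ∀ (m : ℕ) (z : SGA6.Kcoh I.subscheme),
        (⇑(virt r E hE))^[m] (pushC i z) = pushC i ((⇑(virt r _ hE'))^[m] z) := by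
      intro m
      induction m with
      | zero => intro z; rfl
      | succ m hm =>
        intro z
        rw [Function.iterate_succ_apply, Function.iterate_succ_apply, virt_pushC i r hE hE' z, hm]
    rw [Function.iterate_succ_apply, ← hz, hit]
    refine (congrArg (pushC i) (ih hE' (fun j => i ⁻¹ᵁ U j.succ) (fun x => ?_) (fun j => ?_) z)).trans (map_zero _)
    · obtain ⟨j, hj⟩ := hU (i x)
      have hx : i x ∉ (U 0 : Set X) := by
        exact fun h => (hk ▸ Set.mem_range_self x : i x ∈ ((U 0 : X.Opens) : Set X)ᶜ) h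
      obtain ⟨j', rfl⟩ := Fin.exists_succ_eq.2 (fun h0 : j = 0 => hx (h0 ▸ hj))
      exact ⟨j', hj⟩
    · obtain ⟨a⟩ := ht j.succ
      exact ⟨(Scheme.Modules.pullbackComp (i ⁻¹ᵁ U j.succ).ι i).app E ≪≫
        (Scheme.Modules.pullbackCongr (morphismRestrict_ι i (U j.succ)).symm).app E ≪≫
        ((Scheme.Modules.pullbackComp (i ∣_ U j.succ) (U j.succ).ι).app E).symm ≪≫
        (Scheme.Modules.pullback (i ∣_ U j.succ)).mapIso a ≪≫ DerPerf.pullFreeIso _ r⟩

theorem exists_iterate_virt_eq_zero (r : ℕ) {E : X.Modules} (hE : FlatMod.IsFinLocFree E)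
    (hr : FlatMod.IsFinLocFreeOfRank r E) : ∃ n : ℕ, ∀ y, (⇑(virt r E hE))^[n] y = 0 := by
  choose V hxV hV using hr
  obtain ⟨t, ht⟩ := CompactSpace.elim_nhds_subcover (fun x => ((V x : X.Opens) : Set X))
    fun x => (V x).isOpen.mem_nhds (hxV x)
  refine ⟨t.card, iterate_virt_eq_zero r t.card hE (fun j => V (t.equivFin.symm j).1) (fun x => ?_) (fun j => ?_)⟩
  · have hx : x ∈ ⋃ z ∈ t, ((V z : X.Opens) : Set X) := ht ▸ Set.mem_univ x
    simp only [Set.mem_iUnion] at hx
    obtain ⟨z, hz, hxz⟩ := hx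
    exact ⟨t.equivFin ⟨z, hz⟩, by rwa [Equiv.symm_apply_apply]⟩
  · obtain ⟨a⟩ := hV (t.equivFin.symm j).1
    exact ⟨((Scheme.Modules.restrictFunctorIsoPullback _).app E).symm ≪≫ a⟩

end Groth.Agent.K0Virt
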